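import Cfsg.Agent.HSRecog.Cert3.RuleData

/-! Generated by tools/dcoset/emit.py: step words. -/

set_option Elab.async false

namespace Cfsg.Agent.HSRecog.Cert3

open Cfsg.Agent.DCoset Cfsg.Agent.CosetCert

def argWS_1 : Store := (.node 9 (.node 4 (.node 2 (.node 1 (.leaf 0x1) (.leaf 0x20001)) (.node 3 (.leaf 0x40001) (.leaf 0x60001))) (.node 6 (.node 5 (.leaf 0x20001) (.leaf 0x0)) (.node 7 (.leaf 0x20001) (.node 8 (.leaf 0x0) (.leaf 0x1))))) (.node 13 (.node 11 (.node 10 (.leaf 0x0) (.leaf 0x40001)) (.node 12 (.leaf 0x0) (.leaf 0x20001))) (.node 15 (.node 14 (.leaf 0x0) (.leaf 0x1)) (.node 16 (.leaf 0x0) (.node 17 (.leaf 0x1) (.leaf 0x0))))))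

def argWS_2 : Store := (.node 27 (.node 22 (.node 20 (.node 19 (.leaf 0x60002) (.leaf 0x0)) (.node 21 (.leaf 0x20001) (.leaf 0x0))) (.node 24 (.node 23 (.leaf 0x2060002) (.leaf 0x0)) (.node 25 (.leaf 0x1) (.node 26 (.leaf 0x0) (.leaf 0x40002))))) (.node 32 (.node 29 (.node 28 (.leaf 0x0) (.leaf 0x40002)) (.node 30 (.leaf 0x0) (.node 31 (.leaf 0x4020003) (.leaf 0x0)))) (.node 34 (.node 33 (.leaf 0x60001) (.leaf 0x0)) (.node 35 (.leaf 0x10604020004) (.node 36 (.leaf 0x0) (.leaf 0x20001))))))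

def argWS_3 : Store := (.node 18 argWS_1 argWS_2)

def argWS_4 : Store := (.node 46 (.node 41 (.node 39 (.node 38 (.leaf 0x0) (.leaf 0x2040002)) (.node 40 (.leaf 0x0) (.leaf 0x40001))) (.node 43 (.node 42 (.leaf 0x0) (.leaf 0x4020002)) (.node 44 (.leaf 0x0) (.node 45 (.leaf 0x4020002) (.leaf 0x0))))) (.node 50 (.node 48 (.node 47 (.leaf 0x2040002) (.leaf 0x0)) (.node 49 (.leaf 0x60002) (.leaf 0x0))) (.node 52 (.node 51 (.leaf 0x6020003) (.leaf 0x0)) (.node 53 (.leaf 0x60001) (.node 54 (.leaf 0x0) (.leaf 0x10001))))))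

def argWS_5 : Store := (.node 64 (.node 59 (.node 57 (.node 56 (.leaf 0x0) (.leaf 0x10001)) (.node 58 (.leaf 0x0) (.leaf 0x1040002))) (.node 61 (.node 60 (.leaf 0x0) (.leaf 0x60002)) (.node 62 (.leaf 0x0) (.node 63 (.leaf 0x6020003) (.leaf 0x0))))) (.node 69 (.node 66 (.node 65 (.leaf 0x10604020004) (.leaf 0x0)) (.node 67 (.leaf 0x1050306030005) (.node 68 (.leaf 0x0) (.leaf 0x2040002)))) (.node 71 (.node 70 (.leaf 0x0) (.leaf 0x303040003)) (.node 72 (.leaf 0x0) (.node 73 (.leaf 0x6020003) (.leaf 0x0))))))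

def argWS_6 : Store := (.node 55 argWS_4 argWS_5)

def argWS_7 : Store := (.node 37 argWS_3 argWS_6)

def argWS_8 : Store := (.node 83 (.node 78 (.node 76 (.node 75 (.leaf 0x200020006020402060303000b) (.leaf 0x0)) (.node 77 (.leaf 0x303040003) (.leaf 0x0))) (.node 80 (.node 79 (.leaf 0x303010306030006) (.leaf 0x0)) (.node 81 (.leaf 0x303010306030006) (.node 82 (.leaf 0x0) (.leaf 0x60000020002060202060304000c))))) (.node 87 (.node 85 (.node 84 (.leaf 0x0) (.leaf 0x200020006020402060303000b)) (.node 86 (.leaf 0x0) (.leaf 0x40300000306040007))) (.node 89 (.node 88 (.leaf 0x0) (.leaf 0x4020002)) (.node 90 (.leaf 0x0) (.node 91 (.leaf 0x206050003) (.leaf 0x0))))))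

def argWS_9 : Store := (.node 101 (.node 96 (.node 94 (.node 93 (.leaf 0x1050306030005) (.leaf 0x0)) (.node 95 (.leaf 0x1020103050306030008) (.leaf 0x0))) (.node 98 (.node 97 (.leaf 0x6020003) (.leaf 0x0)) (.node 99 (.leaf 0x4000200030604020008) (.node 100 (.leaf 0x0) (.leaf 0x60001))))) (.node 106 (.node 103 (.node 102 (.leaf 0x0) (.leaf 0x6040003)) (.node 104 (.leaf 0x0) (.node 105 (.leaf 0x206050003) (.leaf 0x0)))) (.node 108 (.node 107 (.leaf 0x10300030503060007) (.leaf 0x0)) (.node 109 (.leaf 0x6040003) (.node 110 (.leaf 0x0) (.leaf 0x6050004))))))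

def argWS_10 : Store := (.node 92 argWS_8 argWS_9)

def argWS_11 : Store := (.node 120 (.node 115 (.node 113 (.node 112 (.leaf 0x0) (.leaf 0x2060002)) (.node 114 (.leaf 0x0) (.leaf 0x50000020002060202060304000c))) (.node 117 (.node 116 (.leaf 0x0) (.leaf 0x1040002)) (.node 118 (.leaf 0x0) (.node 119 (.leaf 0x3010301060005) (.leaf 0x0))))) (.node 124 (.node 122 (.node 121 (.leaf 0x10300030503060007) (.leaf 0x0)) (.node 123 (.leaf 0x400030002060402060303000b) (.leaf 0x0))) (.node 126 (.node 125 (.leaf 0x40300000306040007) (.leaf 0x0)) (.node 127 (.leaf 0x403000006020605030009) (.node 128 (.leaf 0x0) (.leaf 0x4000200030604020008))))))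

def argWS_12 : Store := (.node 138 (.node 133 (.node 131 (.node 130 (.leaf 0x0) (.leaf 0x3060002000605030008)) (.node 132 (.leaf 0x0) (.leaf 0x0))) (.node 135 (.node 134 (.leaf 0x6000301020603030008) (.leaf 0x6000301020603030008)) (.node 136 (.leaf 0x0) (.node 137 (.leaf 0x0) (.leaf 0x402040003))))) (.node 143 (.node 140 (.node 139 (.leaf 0x402040003) (.leaf 0x0)) (.node 141 (.leaf 0x20001) (.node 142 (.leaf 0x0) (.leaf 0x2000002)))) (.node 145 (.node 144 (.leaf 0x0) (.leaf 0x20001)) (.node 146 (.leaf 0x0) (.node 147 (.leaf 0x2020002) (.leaf 0x0))))))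

def argWS_13 : Store := (.node 129 argWS_11 argWS_12)

def argWS_14 : Store := (.node 111 argWS_10 argWS_13)

def argWS_15 : Store := (.node 74 argWS_7 argWS_14)

def argWS_16 : Store := (.node 157 (.node 152 (.node 150 (.node 149 (.leaf 0x202040003) (.leaf 0x0)) (.node 151 (.leaf 0x200020003) (.leaf 0x0))) (.node 154 (.node 153 (.leaf 0x200020003) (.leaf 0x0)) (.node 155 (.leaf 0x2000002) (.node 156 (.leaf 0x0) (.leaf 0x200040003))))) (.node 161 (.node 159 (.node 158 (.leaf 0x0) (.leaf 0x20004020004)) (.node 160 (.leaf 0x0) (.leaf 0x2000402040005))) (.node 163 (.node 162 (.leaf 0x0) (.leaf 0x20002020004)) (.node 164 (.leaf 0x0) (.node 165 (.leaf 0x20002000004) (.leaf 0x0))))))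

def argWS_17 : Store := (.node 175 (.node 170 (.node 168 (.node 167 (.leaf 0x3040002) (.leaf 0x0)) (.node 169 (.leaf 0x0) (.leaf 0x0))) (.node 172 (.node 171 (.leaf 0x300040003) (.leaf 0x0)) (.node 173 (.leaf 0x0) (.node 174 (.leaf 0x3010303050005) (.leaf 0x300050003))))) (.node 180 (.node 177 (.node 176 (.leaf 0x0) (.leaf 0xb09080d0004)) (.node 178 (.leaf 0x0) (.node 179 (.leaf 0x0) (.leaf 0x2000200020005)))) (.node 182 (.node 181 (.leaf 0x0) (.leaf 0x0)) (.node 183 (.leaf 0x4030104030005) (.node 184 (.leaf 0x200020002060006) (.leaf 0x0))))))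

def argWS_18 : Store := (.node 166 argWS_16 argWS_17)

def argWS_19 : Store := (.node 194 (.node 189 (.node 187 (.node 186 (.leaf 0xb0f0c0a0004) (.leaf 0x0)) (.node 188 (.leaf 0x0) (.leaf 0x0))) (.node 191 (.node 190 (.leaf 0x0) (.leaf 0x104020603030006)) (.node 192 (.leaf 0x0) (.node 193 (.leaf 0x0) (.leaf 0x403000002060305030603000b))))) (.node 198 (.node 196 (.node 195 (.leaf 0x104020603030006) (.leaf 0x0)) (.node 197 (.leaf 0x103000002060202060305000b) (.leaf 0x0))) (.node 200 (.node 199 (.leaf 0x104020603030006) (.leaf 0x0)) (.node 201 (.leaf 0x2020603050007) (.node 202 (.leaf 0x0) (.leaf 0x403000002060305030603000b))))))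

def argWS_20 : Store := (.node 212 (.node 207 (.node 205 (.node 204 (.leaf 0x0) (.leaf 0x2020603040007)) (.node 206 (.leaf 0x0) (.leaf 0x403000002060305030603000b))) (.node 209 (.node 208 (.leaf 0x0) (.leaf 0x103000002060202060305000b)) (.node 210 (.leaf 0x0) (.node 211 (.leaf 0x6030604020006) (.leaf 0x0))))) (.node 217 (.node 214 (.node 213 (.leaf 0x0) (.leaf 0x50102000003060305030603000c)) (.node 215 (.leaf 0x0) (.node 216 (.leaf 0xa0b0002) (.leaf 0x30001)))) (.node 219 (.node 218 (.leaf 0x0) (.leaf 0x0)) (.node 220 (.leaf 0x3000002060005) (.node 221 (.leaf 0x0) (.leaf 0xc090f0a0e0005))))))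

def argWS_21 : Store := (.node 203 argWS_19 argWS_20)

def argWS_22 : Store := (.node 185 argWS_18 argWS_21)

def argWS_23 : Store := (.node 231 (.node 226 (.node 224 (.node 223 (.leaf 0x30001) (.leaf 0x0)) (.node 225 (.leaf 0x0) (.leaf 0x50002))) (.node 228 (.node 227 (.leaf 0x0) (.leaf 0x0)) (.node 229 (.leaf 0x403000002060006) (.node 230 (.leaf 0x20603030004) (.leaf 0x0))))) (.node 235 (.node 233 (.node 232 (.leaf 0xc090c0a0004) (.leaf 0x30001)) (.node 234 (.leaf 0x0) (.leaf 0x0))) (.node 237 (.node 236 (.leaf 0x0) (.leaf 0x0)) (.node 238 (.leaf 0x40200000206030007) (.node 239 (.leaf 0x0) (.leaf 0x0))))))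

def argWS_24 : Store := (.node 249 (.node 244 (.node 242 (.node 241 (.leaf 0x30604020006) (.leaf 0x0)) (.node 243 (.leaf 0x0) (.leaf 0x4020000030603060402000a))) (.node 246 (.node 245 (.leaf 0xb080d0a0004) (.leaf 0x0)) (.node 247 (.leaf 0x1030002) (.node 248 (.leaf 0x3060002000402050008) (.leaf 0x0))))) (.node 254 (.node 251 (.node 250 (.leaf 0x7070f0c0d0005) (.leaf 0x0)) (.node 252 (.leaf 0xb090f0e0a0005) (.node 253 (.leaf 0xfb0000fa) (.leaf 0x0)))) (.node 256 (.node 255 (.leaf 0x3000002020605030008) (.leaf 0x3030000030602040008)) (.node 257 (.leaf 0x0) (.node 258 (.leaf 0x0) (.leaf 0x0))))))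

def argWS_25 : Store := (.node 240 argWS_23 argWS_24)

def argWS_26 : Store := (.node 268 (.node 263 (.node 261 (.node 260 (.leaf 0xc0001) (.leaf 0x0)) (.node 262 (.leaf 0x40200000206030007) (.leaf 0x0))) (.node 265 (.node 264 (.leaf 0xa0b0a0003) (.leaf 0x20001)) (.node 266 (.leaf 0x0) (.node 267 (.leaf 0x0) (.leaf 0x0))))) (.node 273 (.node 270 (.node 269 (.leaf 0x1040002) (.leaf 0x20006020005)) (.node 271 (.leaf 0x0) (.node 272 (.leaf 0xa0b090e0c0005) (.leaf 0x0)))) (.node 275 (.node 274 (.leaf 0x0) (.leaf 0x0)) (.node 276 (.leaf 0x30001) (.node 277 (.leaf 0x0) (.leaf 0x4020000040202060503000a))))))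

def argWS_27 : Store := (.node 287 (.node 282 (.node 280 (.node 279 (.leaf 0x20001) (.leaf 0x0)) (.node 281 (.leaf 0x0) (.leaf 0x0))) (.node 284 (.node 283 (.leaf 0xc090d0003) (.leaf 0x4020000040202060503000a)) (.node 285 (.leaf 0x0) (.node 286 (.leaf 0xb070d0003) (.leaf 0x0))))) (.node 292 (.node 289 (.node 288 (.leaf 0x602000306040006) (.leaf 0x401030102060402060303000b)) (.node 290 (.leaf 0x0) (.node 291 (.leaf 0x80f0e0a0004) (.leaf 0x0)))) (.node 294 (.node 293 (.leaf 0x123) (.leaf 0x0)) (.node 295 (.leaf 0x202000002060202020603000b) (.node 296 (.leaf 0x500000201030006) (.leaf 0x0))))))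

def argWS_28 : Store := (.node 278 argWS_26 argWS_27)

def argWS_29 : Store := (.node 259 argWS_25 argWS_28)

def argWS_30 : Store := (.node 222 argWS_22 argWS_29)

def argWS_31 : Store := (.node 148 argWS_15 argWS_30)

def argWS_32 : Store := (.node 306 (.node 301 (.node 299 (.node 298 (.leaf 0x0) (.leaf 0x0)) (.node 300 (.leaf 0x80f0c0d0004) (.leaf 0x4020000040202060503000a))) (.node 303 (.node 302 (.leaf 0x0) (.leaf 0x0)) (.node 304 (.leaf 0x0) (.node 305 (.leaf 0x40001) (.leaf 0x0))))) (.node 310 (.node 308 (.node 307 (.leaf 0xa0b090f0c0d0006) (.leaf 0x301030003)) (.node 309 (.leaf 0x0) (.leaf 0x0))) (.node 312 (.node 311 (.leaf 0x0) (.leaf 0x0)) (.node 313 (.leaf 0x6020603030007) (.node 314 (.leaf 0x9080d0a0004) (.leaf 0x90f0c0003))))))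

def argWS_33 : Store := (.node 324 (.node 319 (.node 317 (.node 316 (.leaf 0x0) (.leaf 0x202000002060202020603000b)) (.node 318 (.leaf 0x10306020605030007) (.leaf 0x0))) (.node 321 (.node 320 (.leaf 0xb09070003) (.leaf 0x0)) (.node 322 (.leaf 0x14000013a) (.node 323 (.leaf 0x0) (.leaf 0x3000002020605030008))))) (.node 329 (.node 326 (.node 325 (.leaf 0x20102020603040007) (.leaf 0x0)) (.node 327 (.leaf 0x0) (.node 328 (.leaf 0x0) (.leaf 0xb0f0d0c0004)))) (.node 331 (.node 330 (.leaf 0x0) (.leaf 0x4020002)) (.node 332 (.leaf 0x200000206020402060303000b) (.node 333 (.leaf 0x0) (.leaf 0xa0b0f0e0004))))))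

def argWS_34 : Store := (.node 315 argWS_32 argWS_33)

def argWS_35 : Store := (.node 343 (.node 338 (.node 336 (.node 335 (.leaf 0x0) (.leaf 0x0)) (.node 337 (.leaf 0x50001) (.leaf 0x3010202020605030009))) (.node 340 (.node 339 (.leaf 0x0) (.leaf 0xb0c0a0003)) (.node 341 (.leaf 0x0) (.node 342 (.leaf 0x154) (.leaf 0x0))))) (.node 347 (.node 345 (.node 344 (.leaf 0x602020603050008) (.leaf 0x4030002060305030603000a)) (.node 346 (.leaf 0x0) (.leaf 0x0))) (.node 349 (.node 348 (.leaf 0x0) (.leaf 0xb09080e0c0005)) (.node 350 (.leaf 0x0) (.node 351 (.leaf 0x0) (.leaf 0x4020002))))))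

def argWS_36 : Store := (.node 361 (.node 356 (.node 354 (.node 353 (.leaf 0x40002000303050007) (.leaf 0x0)) (.node 355 (.leaf 0x0) (.leaf 0x0))) (.node 358 (.node 357 (.leaf 0xb070e0003) (.leaf 0x0)) (.node 359 (.leaf 0x0) (.node 360 (.leaf 0xb090f0e0004) (.leaf 0x30001))))) (.node 366 (.node 363 (.node 362 (.leaf 0x0) (.leaf 0x0)) (.node 364 (.leaf 0xb090f0003) (.node 365 (.leaf 0x30001) (.leaf 0x0)))) (.node 368 (.node 367 (.leaf 0x0) (.leaf 0x0)) (.node 369 (.leaf 0x0) (.node 370 (.leaf 0x604020603030006) (.leaf 0x0))))))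

def argWS_37 : Store := (.node 352 argWS_35 argWS_36)

def argWS_38 : Store := (.node 334 argWS_34 argWS_37)

def argWS_39 : Store := (.node 380 (.node 375 (.node 373 (.node 372 (.leaf 0x0) (.leaf 0x602020603040006)) (.node 374 (.leaf 0xf0e0c0003) (.leaf 0x0))) (.node 377 (.node 376 (.leaf 0x102000003060402060303000b) (.leaf 0x3000206020402060303000b)) (.node 378 (.leaf 0x0) (.node 379 (.leaf 0xc0001) (.leaf 0x0))))) (.node 384 (.node 382 (.node 381 (.leaf 0xc090c0003) (.leaf 0x17c00017b)) (.node 383 (.leaf 0x0) (.leaf 0x602020603040006))) (.node 386 (.node 385 (.leaf 0x200000306030503060009) (.leaf 0x0)) (.node 387 (.leaf 0x0) (.node 388 (.leaf 0x0) (.leaf 0x90f0a0003))))))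

def argWS_40 : Store := (.node 398 (.node 393 (.node 391 (.node 390 (.leaf 0x0) (.leaf 0x602020603040006)) (.node 392 (.leaf 0x0) (.leaf 0x6030604020005))) (.node 395 (.node 394 (.leaf 0x0) (.leaf 0x0)) (.node 396 (.leaf 0x602020603040006) (.node 397 (.leaf 0x6020605030005) (.leaf 0x0))))) (.node 403 (.node 400 (.node 399 (.leaf 0xf0e0002) (.leaf 0x30001)) (.node 401 (.leaf 0x0) (.node 402 (.leaf 0x0) (.leaf 0xa0b090003)))) (.node 405 (.node 404 (.leaf 0x0) (.leaf 0x0)) (.node 406 (.leaf 0x20001) (.node 407 (.leaf 0x202020603040008) (.leaf 0x0))))))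

def argWS_41 : Store := (.node 389 argWS_39 argWS_40)

def argWS_42 : Store := (.node 417 (.node 412 (.node 410 (.node 409 (.leaf 0x604020005) (.leaf 0x0)) (.node 411 (.leaf 0x0) (.leaf 0x200000602020603040009))) (.node 414 (.node 413 (.leaf 0x30001) (.leaf 0x0)) (.node 415 (.leaf 0x0) (.node 416 (.leaf 0x0) (.leaf 0x7070f0c0a0005))))) (.node 421 (.node 419 (.node 418 (.leaf 0x0) (.leaf 0x0)) (.node 420 (.leaf 0x0) (.leaf 0x20001))) (.node 423 (.node 422 (.leaf 0x3000006020206030008) (.leaf 0x0)) (.node 424 (.leaf 0x0) (.node 425 (.leaf 0x206050003) (.leaf 0x303000006020206030009))))))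

def argWS_43 : Store := (.node 435 (.node 430 (.node 428 (.node 427 (.leaf 0x0) (.leaf 0x0)) (.node 429 (.leaf 0x0) (.leaf 0x90f0c0003))) (.node 432 (.node 431 (.leaf 0xc090002) (.leaf 0x0)) (.node 433 (.leaf 0x0) (.node 434 (.leaf 0x0) (.leaf 0x0))))) (.node 440 (.node 437 (.node 436 (.leaf 0x0) (.leaf 0x0)) (.node 438 (.leaf 0x3030000060202050008) (.node 439 (.leaf 0x30604020006) (.leaf 0x0)))) (.node 442 (.node 441 (.leaf 0x3000006020605030008) (.leaf 0x0)) (.node 443 (.leaf 0x0) (.node 444 (.leaf 0x20200000603050007) (.leaf 0x2010002))))))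

def argWS_44 : Store := (.node 426 argWS_42 argWS_43)

def argWS_45 : Store := (.node 408 argWS_41 argWS_44)

def argWS_46 : Store := (.node 371 argWS_38 argWS_45)

def argWS_47 : Store := (.node 454 (.node 449 (.node 447 (.node 446 (.leaf 0x0) (.leaf 0x0)) (.node 448 (.leaf 0x0) (.leaf 0xb090f0c0a0005))) (.node 451 (.node 450 (.leaf 0x0) (.leaf 0x30604020006)) (.node 452 (.leaf 0x0) (.node 453 (.leaf 0x4020000040202020603000a) (.leaf 0x0))))) (.node 458 (.node 456 (.node 455 (.leaf 0x40300000306020402060303000c) (.leaf 0x0)) (.node 457 (.leaf 0x0) (.leaf 0x20000030605030007))) (.node 460 (.node 459 (.leaf 0x300000602050306030009) (.leaf 0x0)) (.node 461 (.leaf 0xa0001) (.node 462 (.leaf 0x3010002) (.leaf 0x0))))))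

def argWS_48 : Store := (.node 472 (.node 467 (.node 465 (.node 464 (.leaf 0x0) (.leaf 0x4020000040202060503000a)) (.node 466 (.leaf 0x0) (.leaf 0x304020603030006))) (.node 469 (.node 468 (.leaf 0x0) (.leaf 0x50003)) (.node 470 (.leaf 0x0) (.node 471 (.leaf 0x0) (.leaf 0x20200000603050007))))) (.node 477 (.node 474 (.node 473 (.leaf 0x3030000020202020603000a) (.leaf 0x0)) (.node 475 (.leaf 0xa0b090f0e0a0006) (.node 476 (.leaf 0x3010002) (.leaf 0x0)))) (.node 479 (.node 478 (.leaf 0x0) (.leaf 0x4020000040202020603000a)) (.node 480 (.leaf 0x0) (.node 481 (.leaf 0x30603050306030009) (.leaf 0x0))))))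

def argWS_49 : Store := (.node 463 argWS_47 argWS_48)

def argWS_50 : Store := (.node 491 (.node 486 (.node 484 (.node 483 (.leaf 0x0) (.leaf 0x40300000306020007)) (.node 485 (.leaf 0x201030003) (.leaf 0x0))) (.node 488 (.node 487 (.leaf 0xc090f0c0a0005) (.leaf 0x0)) (.node 489 (.leaf 0x0) (.node 490 (.leaf 0x0) (.leaf 0x0))))) (.node 495 (.node 493 (.node 492 (.leaf 0x300050306030007) (.leaf 0x0)) (.node 494 (.leaf 0x3000006020206030008) (.leaf 0x0))) (.node 497 (.node 496 (.leaf 0x0) (.leaf 0x206050003)) (.node 498 (.leaf 0x30001) (.node 499 (.leaf 0x0) (.leaf 0x0))))))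

def argWS_51 : Store := (.node 509 (.node 504 (.node 502 (.node 501 (.leaf 0x0) (.leaf 0xf0e0002)) (.node 503 (.leaf 0x40300000206040007) (.leaf 0x0))) (.node 506 (.node 505 (.leaf 0x0) (.leaf 0x0)) (.node 507 (.leaf 0x50002000002050007) (.node 508 (.leaf 0x4020000040202060503000a) (.leaf 0x0))))) (.node 514 (.node 511 (.node 510 (.leaf 0x304020603030006) (.leaf 0x0)) (.node 512 (.leaf 0x0) (.node 513 (.leaf 0x40003) (.leaf 0x6000002000202060304000a)))) (.node 516 (.node 515 (.leaf 0x0) (.leaf 0x0)) (.node 517 (.leaf 0x0) (.node 518 (.leaf 0x7070c0a0004) (.leaf 0x0))))))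

def argWS_52 : Store := (.node 500 argWS_50 argWS_51)

def argWS_53 : Store := (.node 482 argWS_49 argWS_52)

def argWS_54 : Store := (.node 528 (.node 523 (.node 521 (.node 520 (.leaf 0x0) (.leaf 0x40202020603040008)) (.node 522 (.leaf 0x600000200060202060303000b) (.leaf 0x0))) (.node 525 (.node 524 (.leaf 0x0) (.leaf 0x102000306030503060009)) (.node 526 (.leaf 0x3010002) (.node 527 (.leaf 0x0) (.leaf 0x0))))) (.node 532 (.node 530 (.node 529 (.leaf 0x0) (.leaf 0x9080a0003)) (.node 531 (.leaf 0x4020000040202060503000a) (.leaf 0x0))) (.node 534 (.node 533 (.leaf 0x0) (.leaf 0x0)) (.node 535 (.leaf 0x0) (.node 536 (.leaf 0x4020002) (.leaf 0x2000003030603060402000b))))))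

def argWS_55 : Store := (.node 546 (.node 541 (.node 539 (.node 538 (.leaf 0x0) (.leaf 0xb080f0e0004)) (.node 540 (.leaf 0x0) (.leaf 0x0))) (.node 543 (.node 542 (.leaf 0x0) (.leaf 0x0)) (.node 544 (.leaf 0x0) (.node 545 (.leaf 0x402020605030007) (.leaf 0x301020003))))) (.node 551 (.node 548 (.node 547 (.leaf 0x400000200040603050306000b) (.leaf 0x0)) (.node 549 (.leaf 0x40002000303050007) (.node 550 (.leaf 0x0) (.leaf 0x0)))) (.node 553 (.node 552 (.leaf 0x0) (.leaf 0x5000200050005)) (.node 554 (.leaf 0x0) (.node 555 (.leaf 0x20202020603040008) (.leaf 0x0))))))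

def argWS_56 : Store := (.node 537 argWS_54 argWS_55)

def argWS_57 : Store := (.node 565 (.node 560 (.node 558 (.node 557 (.leaf 0x600030102050306030009) (.leaf 0x0)) (.node 559 (.leaf 0x201020003060202060503000b) (.leaf 0x0))) (.node 562 (.node 561 (.leaf 0x4030106020005) (.leaf 0x0)) (.node 563 (.leaf 0x0) (.node 564 (.leaf 0x301030602020605030009) (.leaf 0x301030503060006))))) (.node 570 (.node 567 (.node 566 (.leaf 0x0) (.leaf 0x0)) (.node 568 (.leaf 0x0) (.node 569 (.leaf 0xa0b090d0004) (.leaf 0x0)))) (.node 572 (.node 571 (.leaf 0x0) (.leaf 0x0)) (.node 573 (.leaf 0x0) (.node 574 (.leaf 0x300030004020006) (.leaf 0x30001))))))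

def argWS_58 : Store := (.node 584 (.node 579 (.node 577 (.node 576 (.leaf 0x30106020202060305000a) (.leaf 0x0)) (.node 578 (.leaf 0x0) (.leaf 0x0))) (.node 581 (.node 580 (.leaf 0x0) (.leaf 0x20001)) (.node 582 (.leaf 0x0) (.node 583 (.leaf 0x2000002) (.leaf 0x0))))) (.node 589 (.node 586 (.node 585 (.leaf 0x200020003) (.leaf 0x0)) (.node 587 (.leaf 0x0) (.node 588 (.leaf 0x10301030004) (.leaf 0x40103000403050007)))) (.node 591 (.node 590 (.leaf 0x0) (.leaf 0x0)) (.node 592 (.leaf 0x0) (.node 593 (.leaf 0xb070e0003) (.leaf 0x0))))))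

def argWS_59 : Store := (.node 575 argWS_57 argWS_58)

def argWS_60 : Store := (.node 556 argWS_56 argWS_59)

def argWS_61 : Store := (.node 519 argWS_53 argWS_60)

def argWS_62 : Store := (.node 445 argWS_46 argWS_61)

def argWS : Store := (.node 297 argWS_31 argWS_62)

def nodeSrcS : Store := (.leaf 0x20001000100000000)

noncomputable def nodeSrc : Nat → Nat := get16 nodeSrcS

def nodeWS : Store := (.node 2 (.node 1 (.leaf 0x0) (.leaf 0x0)) (.node 3 (.leaf 0x30001) (.node 4 (.leaf 0x301030003) (.leaf 0x30001))))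

def nodeTS : Store := (.leaf 0x10001000100010000)

noncomputable def nodeT : Nat → Nat := get16 nodeTS


end Cfsg.Agent.HSRecog.Cert3
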